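import Mathlib

/-!
Counting agreements of a permutation with the conjugates of another one under the alternating group.
-/

set_option autoImplicit false

namespace CfsgLib.ArcCount

open Equiv Equiv.Perm

variable {n : ℕ}

/-- Points where `g b g⁻¹` agrees with `c`. -/
def agree (c b g : Perm (Fin n)) : Finset (Fin n) :=
  Finset.univ.filter fun x => g (b (g⁻¹ x)) = c x

/-- Fixed points. -/
def fixF (c : Perm (Fin n)) : Finset (Fin n) := Finset.univ.filter fun x => c x = x

theorem fix_le {c : Perm (Fin n)} (hc : c ≠ 1) : (fixF c).card + 2 ≤ n := by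
  have h2 := two_le_card_support_of_ne_one hc
  have h : fixF c = c.supportᶜ := by ext x; simp [fixF]
  rw [h, Finset.card_compl, Fintype.card_fin]
  have := Finset.card_le_univ c.support
  rw [Fintype.card_fin] at this
  omega

theorem agree_swap (c b g : Perm (Fin n)) : (agree c b g).card = (agree b c g⁻¹).card := by
  refine Finset.card_bij (fun x _ => g⁻¹ x) ?_ ?_ ?_
  · intro x hx
    simp only [agree, Finset.mem_filter, Finset.mem_univ, true_and, inv_inv] at hx ⊢
    simp [← hx]
  · intro x _ y _ h
    exact g⁻¹.injective h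
  · intro y hy
    simp only [agree, Finset.mem_filter, Finset.mem_univ, true_and, inv_inv] at hy
    exact ⟨g y, by simp [agree, ← hy], by simp⟩

theorem agree_mul_comm (c b g w : Perm (Fin n)) (h : Commute w b) :
    agree c b (g * w) = agree c b g := by
  have hb : ∀ x, w (b (w⁻¹ x)) = b x := fun x => by
    have := DFunLike.congr_fun h.eq (w⁻¹ x)
    simp only [Perm.mul_apply] at this
    rw [this]; simp
  unfold agree
  refine Finset.filter_congr fun x _ => ?_
  simp only [mul_inv_rev, Perm.mul_apply]
  rw [hb]

theorem agree_comm_mul (c b g w : Perm (Fin n)) (h : Commute w c) :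
    (agree c b (w * g)).card = (agree c b g).card := by
  refine Finset.card_bij (fun x _ => w⁻¹ x) ?_ ?_ ?_
  · intro x hx
    simp only [agree, Finset.mem_filter, Finset.mem_univ, true_and, mul_inv_rev,
      Perm.mul_apply] at hx ⊢
    have := DFunLike.congr_fun h.inv_left.eq x
    simp only [Perm.mul_apply] at this
    rw [← this, ← hx]; simp
  · intro x _ y _ h
    exact w⁻¹.injective h
  · intro y hy
    refine ⟨w y, ?_, by simp⟩
    simp only [agree, Finset.mem_filter, Finset.mem_univ, true_and, mul_inv_rev,
      Perm.mul_apply] at hy ⊢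
    have := DFunLike.congr_fun h.eq y
    simp only [Perm.mul_apply] at this
    rw [← this, ← hy]
    simp

/-- An even permutation with prescribed values, when two points are free. -/
theorem exists_even_extend (hn : 2 ≤ n) (T : Finset (Fin n)) (f : Fin n → Fin n)
    (hf : Set.InjOn f T) :
    ∃ g : Perm (Fin n), (∀ x ∈ T, g x = f x) ∧ (T.card + 2 ≤ n → g ∈ alternatingGroup (Fin n)) := by
  obtain ⟨g, hg⟩ := Set.MapsTo.exists_equiv_extend_of_card_eq (t := (Finset.univ : Finset (Fin n)))
    (s := (T : Set (Fin n))) (by simp) (Set.mapsTo_iff_image_subset.mpr (by simp)) hf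
  let g₀ : Perm (Fin n) := g.trans (Equiv.subtypeUnivEquiv (fun x => Finset.mem_univ x))
  have h0 : ∀ x ∈ T, g₀ x = f x := fun x hx => hg x hx
  by_cases hT : T.card + 2 ≤ n
  · have hc : 1 < Tᶜ.card := by rw [Finset.card_compl, Fintype.card_fin]; omega
    obtain ⟨u, hu, v, hv, huv⟩ := Finset.one_lt_card.mp hc
    rw [Finset.mem_compl] at hu hv
    rcases Int.units_eq_one_or (sign g₀) with h | h
    · exact ⟨g₀, h0, fun _ => h⟩
    · refine ⟨g₀ * swap u v, fun x hx => ?_, fun _ => ?_⟩
      · rw [Perm.mul_apply, swap_apply_of_ne_of_ne (fun e => hu (by rwa [← e]))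
          (fun e => hv (by rwa [← e]))]
        exact h0 x hx
      · rw [mem_alternatingGroup, Perm.sign_mul, Perm.sign_swap huv, h]; rfl
  · exact ⟨g₀, h0, fun h => absurd h hT⟩

/-- Every fixed point of `b` and one moved point can be made agreements. -/
theorem exists_many (hn : 5 ≤ n) {c b : Perm (Fin n)} (hc : c ≠ 1) (hb : b ≠ 1)
    (hle : (fixF b).card ≤ (fixF c).card) :
    ∃ g ∈ alternatingGroup (Fin n), (fixF b).card + 1 ≤ (agree c b g).card := by
  classical
  obtain ⟨x, hx⟩ : ∃ x, c x ≠ x := by by_contra h; push Not at h; exact hc (Perm.ext h)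
  obtain ⟨y, hy⟩ : ∃ y, b y ≠ y := by by_contra h; push Not at h; exact hb (Perm.ext h)
  have hyy : b (b y) ≠ b y := fun h => hy (b.injective h)
  have hxx : c (c x) ≠ c x := fun h => hx (c.injective h)
  obtain ⟨ι⟩ : Nonempty ({z // z ∈ fixF b} ↪ {z // z ∈ fixF c}) :=
    Function.Embedding.nonempty_of_card_le (by simpa using hle)
  let f : Fin n → Fin n := fun z => if h : z ∈ fixF b then (ι ⟨z, h⟩ : Fin n)
    else if z = y then x else c x
  let T := insert y (insert (b y) (fixF b))
  have hyF : y ∉ fixF b := by simp [fixF, hy]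
  have hbyF : b y ∉ fixF b := by simp [fixF, hy]
  have hval : ∀ z (h : z ∈ fixF b), f z ≠ x ∧ f z ≠ c x := by
    intro z h
    have h2 : c (f z) = f z := by
      have := (ι ⟨z, h⟩).2
      simp only [fixF, Finset.mem_filter, Finset.mem_univ, true_and] at this
      have e : f z = (ι ⟨z, h⟩ : Fin n) := dif_pos h
      rw [e]; exact this
    exact ⟨fun e => hx (e ▸ h2), fun e => hxx (e ▸ h2)⟩
  have hfy : f y = x := by simp [f, hyF]
  have hfby : f (b y) = c x := by simp [f, hbyF, hy]
  have hinj : Set.InjOn f T := by
    intro z hz w hw h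
    simp only [T, Finset.coe_insert, Set.mem_insert_iff, Finset.mem_coe] at hz hw
    rcases hz with rfl | rfl | hz <;> rcases hw with rfl | rfl | hw
    all_goals first
      | rfl
      | (rw [hfy, hfby] at h; exact absurd h (Ne.symm hx))
      | (rw [hfby, hfy] at h; exact absurd h hx)
      | (rw [hfy] at h; exact absurd h.symm (hval _ hw).1)
      | (rw [hfby] at h; exact absurd h.symm (hval _ hw).2)
      | (rw [hfy] at h; exact absurd h (hval _ hz).1)
      | (rw [hfby] at h; exact absurd h (hval _ hz).2)
      | (simp only [f, dif_pos hz, dif_pos hw] at h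
         exact congrArg Subtype.val (ι.injective (Subtype.ext h)))
  obtain ⟨g, hg, heven⟩ := exists_even_extend (by omega) T f hinj
  have hcard : T.card = (fixF b).card + 2 := by
    simp [T, hyF, hbyF, Ne.symm hy]
  have hsub : insert x ((fixF b).image g) ⊆ agree c b g := by
    intro z hz
    rcases Finset.mem_insert.mp hz with hz | hz
    · rw [hz]
      have h1 : g y = x := by rw [hg y (by simp [T]), hfy]
      have h2 : g (b y) = c x := by rw [hg (b y) (by simp [T]), hfby]
      have h3 : g⁻¹ x = y := by rw [← h1]; simp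
      simp only [agree, Finset.mem_filter, Finset.mem_univ, true_and]
      rw [h3, h2]
    · obtain ⟨w, hw, rfl⟩ := Finset.mem_image.mp hz
      have h1 : g w = (ι ⟨w, hw⟩ : Fin n) := by rw [hg w (by simp [T, hw])]; simp [f, hw]
      have h2 : c (g w) = g w := by
        rw [h1]; exact (Finset.mem_filter.mp (ι ⟨w, hw⟩).2).2
      have h3 : b w = w := by simpa [fixF] using hw
      simp [agree, h3, h2]
  have hge : (fixF b).card + 1 ≤ (agree c b g).card := by
    refine le_trans (le_of_eq ?_) (Finset.card_le_card hsub)
    rw [Finset.card_insert_of_notMem, Finset.card_image_of_injective _ g.injective]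
    intro h
    obtain ⟨w, hw, hwx⟩ := Finset.mem_image.mp h
    exact (hval w hw).1 (by rw [← hg w (by simp [T, hw]), hwx])
  by_cases hT : T.card + 2 ≤ n
  · exact ⟨g, heven hT, hge⟩
  · have hb2 : 1 < (fixF b).card := by omega
    obtain ⟨u, hu, v, hv, huv⟩ := Finset.one_lt_card.mp hb2
    simp only [fixF, Finset.mem_filter, Finset.mem_univ, true_and] at hu hv
    rcases Int.units_eq_one_or (sign g) with h | h
    · exact ⟨g, h, hge⟩
    · refine ⟨g * swap u v, by rw [mem_alternatingGroup, Perm.sign_mul, Perm.sign_swap huv, h]; rfl, ?_⟩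
      rwa [agree_mul_comm]
      refine Perm.ext fun z => ?_
      simp only [Perm.mul_apply]
      by_cases h1 : z = u
      · subst h1; simp [hu, hv]
      by_cases h2 : z = v
      · subst h2; simp [hu, hv]
      rw [swap_apply_of_ne_of_ne (fun e => h1 (b.injective (e.trans hu.symm)))
        (fun e => h2 (b.injective (e.trans hv.symm))), swap_apply_of_ne_of_ne h1 h2]

set_option maxRecDepth 4000 in
theorem five_odd_or_swap : ∀ c : Perm (Fin 5),
    (Finset.univ.filter fun x => c x = x).card = 1 →
      sign c = -1 ∨ ∃ i j, i ≠ j ∧ c * swap i j = swap i j * c := by decide +kernel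

/-- Two agreements when `c` has one fixed point and `b` none. -/
theorem exists_two (hn : 5 ≤ n) {c b : Perm (Fin n)} (hc : (fixF c).card = 1) (hb : (fixF b).card = 0) :
    ∃ g ∈ alternatingGroup (Fin n), 2 ≤ (agree c b g).card := by
  classical
  have hbf : ∀ z, b z ≠ z := fun z h => by
    rw [Finset.card_eq_zero] at hb
    have : z ∈ fixF b := by simp [fixF, h]
    simp [hb] at this
  obtain ⟨p, hp⟩ := Finset.card_eq_one.mp hc
  have hcf : ∀ z, z ≠ p → c z ≠ z := fun z hz h => hz (by
    have : z ∈ fixF c := by simp [fixF, h]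
    simpa [hp] using this)
  have pick : ∀ S : Finset (Fin n), S.card < n → ∃ z, z ∉ S := fun S h => by
    by_contra hall; push Not at hall
    have : (Finset.univ : Finset (Fin n)) ⊆ S := fun z _ => hall z
    have := Finset.card_le_card this
    simp at this; omega
  obtain ⟨y, -⟩ := pick ∅ (by simp; omega)
  obtain ⟨y', hy'⟩ := pick {y, b y, b⁻¹ y} (lt_of_le_of_lt Finset.card_le_three (by omega))
  obtain ⟨x, hx⟩ := pick {p} (by simp; omega)
  obtain ⟨x', hx'⟩ := pick {x, c x, c⁻¹ x, p} (lt_of_le_of_lt Finset.card_le_four (by omega))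
  simp only [Finset.mem_insert, Finset.mem_singleton, not_or] at hy' hx hx'
  have e1 := hbf y; have e2 := hbf y'; have e3 := hcf x hx; have e4 := hcf x' hx'.2.2.2
  have e5 : b y' ≠ y := fun h => hy'.2.2 (by simp [← h])
  have e6 : c x' ≠ x := fun h => hx'.2.2.1 (by simp [← h])
  have e7 : b y' ≠ b y := fun h => hy'.1 (b.injective h)
  have e8 : c x' ≠ c x := fun h => hx'.1 (c.injective h)
  let f : Fin n → Fin n := fun z => if z = y then x else if z = b y then c x else
    if z = y' then x' else c x'
  let T : Finset (Fin n) := {y, b y, y', b y'}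
  have f1 : f y = x := by simp [f]
  have f2 : f (b y) = c x := by simp [f, e1]
  have f3 : f y' = x' := by simp [f, hy'.1, hy'.2.1]
  have f4 : f (b y') = c x' := by simp [f, e5, e7, e2]
  have hinj : Set.InjOn f T := by
    intro z hz w hw h
    simp only [T, Finset.coe_insert, Finset.coe_singleton, Set.mem_insert_iff,
      Set.mem_singleton_iff] at hz hw
    rcases hz with hz | hz | hz | hz <;> rcases hw with hw | hw | hw | hw <;>
      subst hz hw <;> (first
        | rfl
        | (simp only [f1, f2, f3, f4] at h
           first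
            | exact absurd h (Ne.symm e3)
            | exact absurd h e3
            | exact absurd h (Ne.symm e4)
            | exact absurd h e4
            | exact absurd h e6
            | exact absurd h.symm e6
            | exact absurd h e8
            | exact absurd h.symm e8
            | exact absurd h hx'.1
            | exact absurd h.symm hx'.1
            | exact absurd h hx'.2.1
            | exact absurd h.symm hx'.2.1))
  obtain ⟨g, hg, heven⟩ := exists_even_extend (by omega) T f hinj
  have hsub : ({x, x'} : Finset (Fin n)) ⊆ agree c b g := by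
    intro z hz
    simp only [Finset.mem_insert, Finset.mem_singleton] at hz
    simp only [agree, Finset.mem_filter, Finset.mem_univ, true_and]
    rcases hz with hz | hz <;> rw [hz]
    · rw [show g⁻¹ x = y by rw [← f1, ← hg y (by simp [T])]; simp, hg (b y) (by simp [T]), f2]
    · rw [show g⁻¹ x' = y' by rw [← f3, ← hg y' (by simp [T])]; simp, hg (b y') (by simp [T]), f4]
  have hge : 2 ≤ (agree c b g).card := by
    refine le_trans (le_of_eq ?_) (Finset.card_le_card hsub)
    rw [Finset.card_pair (Ne.symm hx'.1)]
  by_cases hT : T.card + 2 ≤ n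
  · exact ⟨g, heven hT, hge⟩
  have h5 : n = 5 := by have : T.card ≤ 4 := Finset.card_le_four; omega
  rcases Int.units_eq_one_or (sign g) with h | h
  · exact ⟨g, h, hge⟩
  subst h5
  rcases five_odd_or_swap c hc with hodd | ⟨i, j, hij, hcomm⟩
  · exact ⟨c * g, by rw [mem_alternatingGroup, Perm.sign_mul, hodd, h]; rfl,
      by rwa [agree_comm_mul c b g c (Commute.refl c)]⟩
  · exact ⟨swap i j * g, by rw [mem_alternatingGroup, Perm.sign_mul, Perm.sign_swap hij, h]; rfl,
      by rwa [agree_comm_mul c b g _ (show Commute (swap i j) c from hcomm.symm)]⟩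

/-- The even permutations mapping `y, y'` to `x, x'`. -/
def arcs (y y' x x' : Fin n) : Finset (Perm (Fin n)) :=
  Finset.univ.filter fun g => sign g = 1 ∧ g y = x ∧ g y' = x'

theorem arcs_card (hn : 5 ≤ n) {y y' x x' : Fin n} (hy : y ≠ y') (hx : x ≠ x') :
    n * (n - 1) * (arcs y y' x x').card = (Nat.card (alternatingGroup (Fin n))) := by
  classical
  have hall : ∀ q ∈ (Finset.univ : Finset (Fin n)).offDiag,
      (arcs y y' q.1 q.2).card = (arcs y y' x x').card := by
    rintro ⟨u, u'⟩ hq
    have huu : u ≠ u' := (Finset.mem_offDiag.mp hq).2.2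
    let f : Fin n → Fin n := fun z => if z = u then x else x'
    obtain ⟨h, hh, heven⟩ := exists_even_extend (n := n) (by omega) {u, u'} f (by
      intro a ha b hb e
      simp only [Finset.coe_insert, Finset.coe_singleton, Set.mem_insert_iff,
        Set.mem_singleton_iff] at ha hb
      rcases ha with rfl | rfl <;> rcases hb with rfl | rfl <;>
        simp_all [f, huu.symm, hx, hx.symm])
    have hmem := heven (by rw [Finset.card_pair huu]; omega)
    have h1 : h u = x := by rw [hh u (by simp)]; simp [f]
    have h2 : h u' = x' := by rw [hh u' (by simp)]; simp [f, huu.symm]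
    refine Finset.card_bij (fun g _ => h * g) ?_ ?_ ?_
    · intro g hg
      simp only [arcs, Finset.mem_filter, Finset.mem_univ, true_and] at hg ⊢
      exact ⟨by rw [Perm.sign_mul, mem_alternatingGroup.mp hmem, hg.1]; rfl, by simp [hg.2.1, h1], by simp [hg.2.2, h2]⟩
    · intro g _ g' _ e
      exact mul_left_cancel e
    · intro g hg
      simp only [arcs, Finset.mem_filter, Finset.mem_univ, true_and] at hg
      refine ⟨h⁻¹ * g, ?_, by simp⟩
      simp only [arcs, Finset.mem_filter, Finset.mem_univ, true_and]
      exact ⟨by rw [Perm.sign_mul, mem_alternatingGroup.mp (inv_mem hmem), hg.1]; rfl, by simp [hg.2.1, ← h1], by simp [hg.2.2, ← h2]⟩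
  have hsum : (Finset.univ.filter fun g : Perm (Fin n) => sign g = 1).card =
      ∑ q ∈ (Finset.univ : Finset (Fin n)).offDiag, (arcs y y' q.1 q.2).card := by
    rw [Finset.card_eq_sum_card_fiberwise (f := fun g : Perm (Fin n) => (g y, g y'))
      (t := (Finset.univ : Finset (Fin n)).offDiag) (fun g _ => by simp [hy])]
    refine Finset.sum_congr rfl fun q _ => congrArg Finset.card ?_
    ext g; simp [arcs, Prod.ext_iff]
  rw [Finset.sum_congr rfl hall, Finset.sum_const, smul_eq_mul, Finset.offDiag_card,
    Finset.card_univ, Fintype.card_fin] at hsum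
  rw [Nat.card_eq_fintype_card, Fintype.card_subtype]
  simp only [mem_alternatingGroup]
  rw [hsum, Nat.mul_sub, mul_one]

theorem not_constant (hn : 5 ≤ n) {c b : Perm (Fin n)} (hc : c ≠ 1) (hb : b ≠ 1)
    (hle : (fixF b).card ≤ (fixF c).card) (k : ℕ) :
    ¬ ∀ g ∈ alternatingGroup (Fin n), (agree c b g).card = k := by
  classical
  intro hk
  set A := Finset.univ.filter fun g : Perm (Fin n) => sign g = 1 with hA
  have hAc : A.card = Nat.card (alternatingGroup (Fin n)) := by
    rw [Nat.card_eq_fintype_card, Fintype.card_subtype]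
    simp only [mem_alternatingGroup, hA]
  set α := (fixF c).card
  set β := (fixF b).card
  set M := Nat.card (alternatingGroup (Fin n))
  have hfixed : ∀ x, c x = x →
      n * (A.filter fun g => g (b (g⁻¹ x)) = c x).card = β * M := by
    intro x hx
    obtain ⟨x', hx'⟩ : ∃ x', x' ≠ x := by
      haveI : Nontrivial (Fin n) := Fin.nontrivial_iff_two_le.mpr (by omega)
      exact exists_ne x
    have hone : ∀ y, n * (A.filter fun g => g y = x).card = M := by
      intro y
      obtain ⟨y', hy'⟩ : ∃ y', y' ≠ y := by
        haveI : Nontrivial (Fin n) := Fin.nontrivial_iff_two_le.mpr (by omega)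
        exact exists_ne y
      have hs : (A.filter fun g => g y = x).card =
          ∑ u ∈ (Finset.univ : Finset (Fin n)).erase x, (arcs y y' x u).card := by
        rw [Finset.card_eq_sum_card_fiberwise (f := fun g : Perm (Fin n) => g y')
          (t := (Finset.univ : Finset (Fin n)).erase x) (fun g hg => by
            simp only [Finset.coe_filter, Set.mem_setOf_eq] at hg
            simp only [Finset.coe_erase, Set.mem_diff, Finset.coe_univ, Set.mem_univ, true_and,
              Set.mem_singleton_iff]
            exact fun e => hy' (g.injective (e.trans hg.2.symm)))]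
        refine Finset.sum_congr rfl fun q _ => congrArg Finset.card ?_
        ext g; simp [arcs, A, and_assoc]
      have hconst : ∀ u ∈ (Finset.univ : Finset (Fin n)).erase x,
          n * (n - 1) * (arcs y y' x u).card = M := fun u hu =>
        arcs_card hn hy'.symm (Finset.ne_of_mem_erase hu).symm
      have h1 : (n - 1) * (n * (A.filter fun g => g y = x).card) = (n - 1) * M := by
        rw [hs, ← mul_assoc, mul_comm (n - 1) n, Finset.mul_sum, Finset.sum_congr rfl hconst,
          Finset.sum_const, Finset.card_erase_of_mem (Finset.mem_univ x), Finset.card_univ,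
          Fintype.card_fin, smul_eq_mul]
      exact Nat.eq_of_mul_eq_mul_left (by omega) h1
    rw [Finset.card_eq_sum_card_fiberwise (f := fun g : Perm (Fin n) => g⁻¹ x) (t := fixF b)
      (fun g hg => by
        simp only [Finset.coe_filter, Set.mem_setOf_eq] at hg
        simp only [fixF, Finset.coe_filter, Finset.mem_univ, true_and, Set.mem_setOf_eq]
        rw [hx] at hg
        exact g.injective (by rw [hg.2]; simp)), Finset.mul_sum]
    rw [Finset.sum_congr rfl (g := fun _ => M) (fun y hy => ?_)]
    · rw [Finset.sum_const, smul_eq_mul]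
    · rw [← hone y]
      congr 2
      ext g
      simp only [Finset.mem_filter]
      have hby : b y = y := by simpa [fixF] using hy
      constructor
      · rintro ⟨⟨h1, -⟩, h2⟩
        exact ⟨h1, by rw [← h2]; simp⟩
      · rintro ⟨h1, h2⟩
        have h3 : g⁻¹ x = y := by rw [← h2]; simp
        exact ⟨⟨h1, by rw [h3, hby, h2, hx]⟩, h3⟩
  have hmoved : ∀ x, c x ≠ x →
      n * (n - 1) * (A.filter fun g => g (b (g⁻¹ x)) = c x).card = (n - β) * M := by
    intro x hx
    rw [Finset.card_eq_sum_card_fiberwise (f := fun g : Perm (Fin n) => g⁻¹ x) (t := (fixF b)ᶜ)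
      (fun g hg => by
        simp only [Finset.coe_filter, Set.mem_setOf_eq] at hg
        simp only [fixF, Finset.coe_compl, Set.mem_compl_iff, Finset.coe_filter, Finset.mem_univ,
          true_and, Set.mem_setOf_eq]
        intro h
        rw [h] at hg
        exact hx (by simpa using hg.2.symm)), Finset.mul_sum]
    rw [Finset.sum_congr rfl (g := fun _ => M) (fun y hy => ?_)]
    · rw [Finset.sum_const, smul_eq_mul, Finset.card_compl, Fintype.card_fin]
    · have hby : b y ≠ y := by simpa [fixF] using hy
      refine Eq.trans ?_ (arcs_card hn hby.symm (Ne.symm hx))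
      congr 2
      ext g
      simp only [Finset.mem_filter, arcs, A, Finset.mem_univ, true_and]
      constructor
      · rintro ⟨⟨h1, h2⟩, h3⟩
        exact ⟨h1, by rw [← h3]; simp, by rw [← h3]; exact h2⟩
      · rintro ⟨h1, h2, h3⟩
        have h4 : g⁻¹ x = y := by rw [← h2]; simp
        exact ⟨⟨h1, by rw [h4]; exact h3⟩, h4⟩
  have hdc : ∑ g ∈ A, (agree c b g).card =
      ∑ x : Fin n, (A.filter fun g => g (b (g⁻¹ x)) = c x).card := by
    simp only [agree, Finset.card_filter]
    rw [Finset.sum_comm]
  rw [Finset.sum_congr rfl (fun g hg => hk g (mem_alternatingGroup.mpr (Finset.mem_filter.mp hg).2)), Finset.sum_const,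
    smul_eq_mul, hAc] at hdc
  have hterm : ∀ x : Fin n, n * (n - 1) * (A.filter fun g => g (b (g⁻¹ x)) = c x).card =
      (if c x = x then β * (n - 1) else n - β) * M := by
    intro x
    split_ifs with h
    · rw [mul_comm n, mul_assoc, hfixed x h]; ring
    · exact hmoved x h
  have htot : n * (n - 1) * k * M = (α * β * (n - 1) + (n - α) * (n - β)) * M := by
    rw [mul_assoc, mul_comm k, hdc, Finset.mul_sum, Finset.sum_congr rfl (fun x _ => hterm x),
      ← Finset.sum_mul, Finset.sum_ite, Finset.sum_const, Finset.sum_const, smul_eq_mul,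
      smul_eq_mul, Finset.filter_not, Finset.card_univ_sdiff, Fintype.card_fin]
    simp only [α, fixF]
    ring
  have hM : 0 < M := Nat.card_pos
  have heq := Nat.eq_of_mul_eq_mul_right hM htot
  have hαn : α + 2 ≤ n := fix_le hc
  obtain ⟨g, hg, hge⟩ := exists_many hn hc hb hle
  rw [hk g hg] at hge
  have hge' : β + 1 ≤ k := hge
  rcases Nat.eq_zero_or_pos β with hβ | hβ
  · rw [hβ] at heq hge'
    simp only [mul_zero, zero_mul, zero_add, Nat.sub_zero] at heq
    have h' : (n - 1) * k = n - α := Nat.eq_of_mul_eq_mul_left (show 0 < n by omega)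
      (by rw [← mul_assoc, heq, mul_comm])
    have hmul : (n - 1) * 1 ≤ (n - 1) * k := Nat.mul_le_mul_left _ hge'
    rcases Nat.lt_or_ge α 2 with hα | hα
    · rcases (show α = 0 ∨ α = 1 by omega) with hα0 | hα1
      · rw [hα0] at h'
        rcases Nat.lt_or_ge k 2 with h | h
        · interval_cases k; omega
        · have : (n - 1) * 2 ≤ (n - 1) * k := Nat.mul_le_mul_left _ h
          omega
      · obtain ⟨g, hg, h2⟩ := exists_two hn (c := c) (b := b) hα1 hβ
        rw [hk g hg] at h2
        have : (n - 1) * 2 ≤ (n - 1) * k := Nat.mul_le_mul_left _ h2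
        omega
    · omega
  · have hαle : α ≤ n := by omega
    have hβle : β ≤ n := by omega
    zify [hαle, hβle, show 1 ≤ n by omega] at heq
    have h1 : (α : ℤ) + 2 ≤ n := by exact_mod_cast hαn
    have h2 : (1 : ℤ) ≤ β := by exact_mod_cast hβ
    have h3 : (β : ℤ) + 1 ≤ k := by exact_mod_cast hge'
    have h4 : (5 : ℤ) ≤ n := by exact_mod_cast hn
    have h5 : (β : ℤ) ≤ α := by exact_mod_cast (hle : β ≤ α)
    nlinarith [mul_le_mul_of_nonneg_left h3 (show (0 : ℤ) ≤ n * (n - 1) by nlinarith),
      mul_le_mul_of_nonneg_left h1 (show (0 : ℤ) ≤ β * n by nlinarith)]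

theorem two_values (hn : 5 ≤ n) {a b : Perm (Fin n)} (ha : a ≠ 1) (hb : b ≠ 1) :
    ∃ g₁ g₂ : Perm (Fin n), g₁ ∈ alternatingGroup (Fin n) ∧ g₂ ∈ alternatingGroup (Fin n) ∧
      Nat.card (Function.fixedPoints ⇑(a * (g₁ * b * g₁⁻¹))) ≠
        Nat.card (Function.fixedPoints ⇑(a * (g₂ * b * g₂⁻¹))) := by
  classical
  have hfp : ∀ g : Perm (Fin n),
      Nat.card (Function.fixedPoints ⇑(a * (g * b * g⁻¹))) = (agree a⁻¹ b g).card := by
    intro g
    rw [Nat.card_eq_fintype_card, ← Set.toFinset_card]
    congr 1
    ext x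
    simp [agree, Function.fixedPoints, Function.IsFixedPt, Equiv.eq_symm_apply]
    exact Set.mem_toFinset
  by_contra hall
  push Not at hall
  simp only [hfp] at hall
  have hk : ∀ g ∈ alternatingGroup (Fin n), (agree a⁻¹ b g).card = (agree a⁻¹ b 1).card :=
    fun g hg => hall g 1 hg (one_mem _)
  rcases le_total (fixF b).card (fixF a⁻¹).card with h | h
  · exact not_constant hn (inv_ne_one.mpr ha) hb h _ hk
  · refine not_constant hn hb (inv_ne_one.mpr ha) h (agree a⁻¹ b 1).card fun g hg => ?_
    rw [agree_swap]
    exact hk g⁻¹ (inv_mem hg)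

end CfsgLib.ArcCount
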